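import Mathlib.LinearAlgebra.GeneralLinearGroup.AlgEquiv
import Mathlib.Algebra.DirectSum.Module
import Mathlib.LinearAlgebra.Dual.Lemmas
import Mathlib.Algebra.Module.Equiv.Basic

/-!
# Graded endomorphism algebras determine the graded space up to shift
-/

set_option autoImplicit false
set_option linter.style.haveILetI false

universe u v

namespace TwShA.GradedEnd

noncomputable section

variable {k : Type u} [Field k] {V : Type v} [AddCommGroup V] [Module k V]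
variable {𝒱 : ℤ → Submodule k V} (h : DirectSum.IsInternal 𝒱)

/-- projection to a component -/
def proj (i : ℤ) : Module.End k V :=
  (𝒱 i).subtype ∘ₗ DirectSum.component k ℤ (fun j => 𝒱 j) i ∘ₗ
    (LinearEquiv.ofBijective (DirectSum.coeLinearMap 𝒱) h).symm.toLinearMap

theorem proj_mem (i : ℤ) (x : V) : proj h i x ∈ 𝒱 i := Subtype.prop _

theorem proj_self {i : ℤ} {x : V} (hx : x ∈ 𝒱 i) : proj h i x = x :=
  congrArg Subtype.val (h.ofBijective_coeLinearMap_of_mem hx)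

theorem proj_other {i j : ℤ} (hij : i ≠ j) {x : V} (hx : x ∈ 𝒱 i) : proj h j x = 0 :=
  congrArg Subtype.val (h.ofBijective_coeLinearMap_of_mem_ne hij hx)

theorem exists_proj_ne {x : V} (hx : x ≠ 0) : ∃ i, proj h i x ≠ 0 := by
  by_contra hne
  push Not at hne
  apply hx
  have h0 : (LinearEquiv.ofBijective (DirectSum.coeLinearMap 𝒱) h).symm x = 0 :=
    DFinsupp.ext fun i => Subtype.ext (hne i)
  exact (LinearEquiv.map_eq_zero_iff _).mp h0

include h in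
theorem hom_ext {W : Type v} [AddCommGroup W] [Module k W] {f g : V →ₗ[k] W}
    (hfg : ∀ i, ∀ x ∈ 𝒱 i, f x = g x) : f = g := by
  have hle : (⊤ : Submodule k V) ≤ LinearMap.eqLocus f g := by
    rw [← h.submodule_iSup_eq_top]
    exact iSup_le fun i x hx => hfg i x hx
  exact LinearMap.ext fun x => hle Submodule.mem_top

theorem main (V W : Type v) [AddCommGroup V] [Module k V] [FiniteDimensional k V] [Nontrivial V]
    [AddCommGroup W] [Module k W] [FiniteDimensional k W] (𝒱 : ℤ → Submodule k V)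
    (h𝒱 : DirectSum.IsInternal 𝒱) (𝒲 : ℤ → Submodule k W) (h𝒲 : DirectSum.IsInternal 𝒲)
    (φ : Module.End k V ≃ₐ[k] Module.End k W)
    (hφ : ∀ (d : ℤ) (f : Module.End k V), (∀ (i : ℤ) (x : V), x ∈ 𝒱 i → f x ∈ 𝒱 (i + d)) →
      ∀ (i : ℤ) (y : W), y ∈ 𝒲 i → φ f y ∈ 𝒲 (i + d)) :
    ∃ (n : ℤ) (g : V ≃ₗ[k] W), (∀ i : ℤ, Submodule.map (g : V →ₗ[k] W) (𝒱 i) = 𝒲 (i + n)) ∧
      (∀ f : Module.End k V, φ f = (g : V →ₗ[k] W) ∘ₗ f ∘ₗ (g.symm : W →ₗ[k] V)) ∧
      ∀ (n' : ℤ) (g' : V ≃ₗ[k] W), (∀ i : ℤ, Submodule.map (g' : V →ₗ[k] W) (𝒱 i) = 𝒲 (i + n')) →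
        (∀ f : Module.End k V, φ f = (g' : V →ₗ[k] W) ∘ₗ f ∘ₗ (g'.symm : W →ₗ[k] V)) →
        n' = n ∧ ∃ c : kˣ, ∀ x : V, g' x = c • g x := by
  obtain ⟨g, hg⟩ := φ.eq_linearEquivConjAlgEquiv
  have hg' : ∀ f : Module.End k V, φ f = (g : V →ₗ[k] W) ∘ₗ f ∘ₗ (g.symm : W →ₗ[k] V) := by
    intro f
    rw [hg]
    rfl
  have hga : ∀ (f : Module.End k V) (x : V), φ f (g x) = g (f x) := by
    intro f x
    rw [hg']
    simp
  -- a homogeneous element with homogeneous image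
  obtain ⟨v, hv⟩ := exists_ne (0 : V)
  obtain ⟨i₀, hi₀⟩ := exists_proj_ne h𝒱 hv
  obtain ⟨j, hj⟩ := exists_proj_ne h𝒲 (fun e => hi₀ (g.map_eq_zero_iff.mp e))
  obtain ⟨x, hxdef⟩ : ∃ x, x = g.symm (proj h𝒲 j (g (proj h𝒱 i₀ v))) := ⟨_, rfl⟩
  have hgx : g x ∈ 𝒲 j := by rw [hxdef, g.apply_symm_apply]; exact proj_mem h𝒲 j _
  have hx0 : x ≠ 0 := by
    intro e
    rw [hxdef, g.symm.map_eq_zero_iff] at e
    exact hj e
  have hπ : ∀ y : W, φ (proj h𝒱 i₀) (proj h𝒲 j y) = proj h𝒲 j (φ (proj h𝒱 i₀) y) := by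
    intro y
    have hdeg : ∀ i z, z ∈ 𝒲 i → φ (proj h𝒱 i₀) z ∈ 𝒲 i := fun i z hz => by
      have := hφ 0 (proj h𝒱 i₀) (fun i' x' hx' => by
        rw [add_zero]
        rcases eq_or_ne i' i₀ with rfl | hne
        · rw [proj_self h𝒱 hx']; exact hx'
        · rw [proj_other h𝒱 hne hx']; exact zero_mem _) i z hz
      rwa [add_zero] at this
    refine LinearMap.congr_fun (f := φ (proj h𝒱 i₀) ∘ₗ proj h𝒲 j)
      (g := proj h𝒲 j ∘ₗ φ (proj h𝒱 i₀)) (hom_ext h𝒲 fun i z hz => ?_) y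
    simp only [LinearMap.comp_apply]
    rcases eq_or_ne i j with rfl | hne
    · rw [proj_self h𝒲 hz, proj_self h𝒲 (hdeg i z hz)]
    · rw [proj_other h𝒲 hne hz, proj_other h𝒲 hne (hdeg i z hz), map_zero]
  have hxi : x ∈ 𝒱 i₀ := by
    have h1 := hπ (g (proj h𝒱 i₀ v))
    rw [hga, proj_self h𝒱 (proj_mem h𝒱 i₀ v)] at h1
    have h2 : φ (proj h𝒱 i₀) (g x) = g x := by rw [hxdef, g.apply_symm_apply, h1]
    rw [hga] at h2
    rw [← g.injective h2]
    exact proj_mem h𝒱 i₀ x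
  obtain ⟨μ, hμ⟩ := Module.Projective.exists_dual_eq_one k hx0
  set n := j - i₀ with hn
  have hle : ∀ i, ∀ x' ∈ 𝒱 i, g x' ∈ 𝒲 (i + n) := by
    intro i x' hx'
    let f : Module.End k V := LinearMap.smulRight (μ ∘ₗ proj h𝒱 i₀) x'
    have hf : f x = x' := by simp [f, proj_self h𝒱 hxi, hμ]
    have := hφ (i - i₀) f (fun i' z hz => by
      rcases eq_or_ne i' i₀ with rfl | hne
      · have : i' + (i - i') = i := by omega
        rw [this]
        exact (𝒱 i).smul_mem _ hx'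
      · simp [f, proj_other h𝒱 hne hz]) j (g x) hgx
    rw [hga, hf] at this
    rwa [show i + n = j + (i - i₀) by omega]
  have heq : ∀ i, Submodule.map (g : V →ₗ[k] W) (𝒱 i) = 𝒲 (i + n) := by
    intro i
    refine le_antisymm (Submodule.map_le_iff_le_comap.mpr fun z hz => hle i z hz) fun y hy => ?_
    have hcomm : proj h𝒲 (i + n) ∘ₗ (g : V →ₗ[k] W) = (g : V →ₗ[k] W) ∘ₗ proj h𝒱 i := by
      refine hom_ext h𝒱 fun t z hz => ?_
      simp only [LinearMap.comp_apply, LinearEquiv.coe_coe]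
      rcases eq_or_ne t i with rfl | hne
      · rw [proj_self h𝒱 hz, proj_self h𝒲 (hle t z hz)]
      · rw [proj_other h𝒱 hne hz, proj_other h𝒲 (fun e => hne (by omega)) (hle t z hz), map_zero]
    refine ⟨proj h𝒱 i (g.symm y), proj_mem h𝒱 i _, ?_⟩
    have := LinearMap.congr_fun hcomm (g.symm y)
    simp only [LinearMap.comp_apply, LinearEquiv.coe_coe, g.apply_symm_apply, proj_self h𝒲 hy] at this
    exact this.symm
  refine ⟨n, g, heq, hg', fun n' g' hg'n hg'φ => ?_⟩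
  obtain ⟨c, hc⟩ : ∃ c : k, ∀ z, g' z = c • g z := by
    refine ⟨μ (g.symm (g' x)), fun z => ?_⟩
    have h1 := hga (LinearMap.smulRight μ z) (g.symm (g' x))
    rw [g.apply_symm_apply, hg'φ] at h1
    simpa [hμ] using h1
  have hc0 : c ≠ 0 := by
    rintro rfl
    exact hx0 (g'.map_eq_zero_iff.mp (by simpa using hc x))
  refine ⟨?_, Units.mk0 c hc0, fun z => hc z⟩
  by_contra hne
  have h1 : g' x ∈ 𝒲 (i₀ + n') := hg'n i₀ ▸ Submodule.mem_map_of_mem hxi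
  have h2 : g' x ∈ 𝒲 (i₀ + n) := by rw [hc]; exact Submodule.smul_mem _ _ (hle i₀ x hxi)
  have h3 := proj_other h𝒲 (show i₀ + n' ≠ i₀ + n by omega) h1
  rw [proj_self h𝒲 h2] at h3
  exact hx0 (g'.map_eq_zero_iff.mp h3)

end

end TwShA.GradedEnd
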