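import Mathlib.RingTheory.Jacobson.Radical
import Mathlib.RingTheory.SimpleModule.Isotypic
import Mathlib.RingTheory.SimpleModule.WedderburnArtin
import Mathlib.RingTheory.Length
import Mathlib.Algebra.Module.Torsion.Basic
import Mathlib.Algebra.Module.Projective

/-!
# Finitely generated projective modules over a strongly local ring are determined by their
endomorphism rings
-/

set_option autoImplicit false
set_option linter.style.haveILetI false
set_option linter.unusedSectionVars false

universe u v

namespace TwShA.StronglyLocal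

noncomputable section

variable (A : Type u) [Ring A]

/-- reduction modulo the Jacobson radical -/
abbrev Red (P : Type v) [AddCommGroup P] [Module A P] : Type v :=
  P ⧸ (Ring.jacobson A • (⊤ : Submodule A P))

variable {A} {P Q T : Type v} [AddCommGroup P] [Module A P] [AddCommGroup Q] [Module A Q]
  [AddCommGroup T] [Module A T]

/-- the map induced on reductions -/
def redMap (f : P →ₗ[A] Q) : Red A P →ₗ[A ⧸ Ring.jacobson A] Red A Q where
  toFun := Submodule.mapQ _ _ f (Submodule.map_le_iff_le_comap.mp (by
    rw [Submodule.map_smul'']; exact smul_mono_right _ le_top))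
  map_add' := map_add _
  map_smul' r x := by
    obtain ⟨r, rfl⟩ := Ideal.Quotient.mk_surjective r
    obtain ⟨x, rfl⟩ := Submodule.Quotient.mk_surjective _ x
    change Submodule.Quotient.mk (f (r • x)) = Submodule.Quotient.mk (r • f x)
    rw [map_smul]

theorem redMap_mk (f : P →ₗ[A] Q) (x : P) :
    redMap f (Submodule.Quotient.mk x) = Submodule.Quotient.mk (f x) := rfl

theorem redMap_comp (g : Q →ₗ[A] T) (f : P →ₗ[A] Q) :
    redMap (g ∘ₗ f) = (redMap g).comp (redMap f) := by
  refine LinearMap.ext fun x => ?_
  obtain ⟨x, rfl⟩ := Submodule.Quotient.mk_surjective _ x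
  rfl

theorem redMap_surjective [Module.Projective A P] (φ : Red A P →ₗ[A ⧸ Ring.jacobson A] Red A Q) :
    ∃ f : P →ₗ[A] Q, redMap f = φ := by
  let φ' : P →ₗ[A] Red A Q :=
    { toFun := fun x => φ (Submodule.Quotient.mk x)
      map_add' := fun x y => map_add φ (Submodule.Quotient.mk x) (Submodule.Quotient.mk y)
      map_smul' := fun r x => map_smul φ (Ideal.Quotient.mk _ r) (Submodule.Quotient.mk x) }
  obtain ⟨f, hf⟩ := Module.projective_lifting_property (Submodule.mkQ _) φ'
    (Submodule.mkQ_surjective _)
  refine ⟨f, LinearMap.ext fun x => ?_⟩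
  obtain ⟨x, rfl⟩ := Submodule.Quotient.mk_surjective _ x
  exact LinearMap.congr_fun hf x

theorem bijective_of_redMap [Module.Finite A P] [Module.Finite A Q] [Module.Projective A Q]
    (f : P →ₗ[A] Q) (h : Function.Bijective (redMap f)) : Function.Bijective f := by
  have hs : Function.Surjective f := by
    rw [← LinearMap.range_eq_top]
    have hsub : Subsingleton (Q ⧸ LinearMap.range f) := by
      have htop : (⊤ : Submodule A (Q ⧸ LinearMap.range f)) ≤ Ring.jacobson A • ⊤ := by
        rintro y -
        obtain ⟨y, rfl⟩ := Submodule.Quotient.mk_surjective _ y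
        obtain ⟨x, hx⟩ := h.2 (Submodule.Quotient.mk y)
        obtain ⟨x, rfl⟩ := Submodule.Quotient.mk_surjective _ x
        rw [redMap_mk, Submodule.Quotient.eq] at hx
        have h1 : (LinearMap.range f).mkQ (f x - y) ∈
            Ring.jacobson A • (⊤ : Submodule A (Q ⧸ LinearMap.range f)) := by
          have := Submodule.mem_map_of_mem (f := (LinearMap.range f).mkQ) hx
          rw [Submodule.map_smul'', Submodule.map_top, Submodule.range_mkQ] at this
          exact this
        rw [map_sub, Submodule.mkQ_apply, Submodule.mkQ_apply,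
          (Submodule.Quotient.mk_eq_zero _).mpr (LinearMap.mem_range_self f x), zero_sub] at h1
        exact neg_mem_iff.mp h1
      have h0 := Module.Finite.fg_top.eq_bot_of_le_jacobson_smul htop
      exact Submodule.subsingleton_iff A |>.mp (subsingleton_of_top_le_bot h0.le) 
    exact (Submodule.Quotient.subsingleton_iff).mp hsub
  refine ⟨?_, hs⟩
  obtain ⟨s, hs'⟩ := Module.projective_lifting_property f LinearMap.id hs
  let π : P →ₗ[A] P := LinearMap.id - s ∘ₗ f
  have hker : LinearMap.range π = LinearMap.ker f := by
    apply le_antisymm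
    · rintro _ ⟨x, rfl⟩
      have := LinearMap.congr_fun hs' (f x)
      simp only [LinearMap.comp_apply, LinearMap.id_apply] at this
      simp [π, this]
    · intro x hx
      exact ⟨x, by simp [π, LinearMap.mem_ker.mp hx]⟩
  have hfg : (LinearMap.ker f).FG := by
    rw [← hker, LinearMap.range_eq_map]
    exact Module.Finite.fg_top.map π
  rw [← LinearMap.ker_eq_bot]
  refine hfg.eq_bot_of_le_jacobson_smul fun x hx => ?_
  have h1 : redMap f (Submodule.Quotient.mk x) = redMap f 0 := by
    rw [redMap_mk, LinearMap.mem_ker.mp hx, map_zero]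
    rfl
  have h2 : x ∈ Ring.jacobson A • (⊤ : Submodule A P) :=
    (Submodule.Quotient.mk_eq_zero _).mp (h.1 h1)
  have h3 := Submodule.mem_map_of_mem (f := π) h2
  rw [Submodule.map_smul'', Submodule.map_top, hker] at h3
  simpa [π, LinearMap.mem_ker.mp hx] using h3

variable [IsSimpleRing (A ⧸ Ring.jacobson A)] [IsArtinianRing (A ⧸ Ring.jacobson A)]

theorem unit_sub [Module.Finite A P] [Module.Projective A P] (f : Module.End A P)
    (hf : redMap f = 0) : IsUnit (1 - f : Module.End A P) := by
  refine (Module.End.isUnit_iff _).mpr (bijective_of_redMap _ ?_)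
  have : redMap (1 - f : Module.End A P) = LinearMap.id := by
    refine LinearMap.ext fun x => ?_
    obtain ⟨x, rfl⟩ := Submodule.Quotient.mk_surjective _ x
    have h1 : Submodule.Quotient.mk (f x) = (0 : Red A P) := by
      rw [← redMap_mk, hf]; rfl
    rw [redMap_mk]
    simp [h1]
  rw [this]
  exact Function.bijective_id

theorem redMap_equiv_zero [Module.Finite A P] [Module.Projective A P] [Module.Finite A Q]
    [Module.Projective A Q] (e : Module.End A P ≃+* Module.End A Q) (f : Module.End A P)
    (hf : redMap f = 0) : redMap (e f) = 0 := by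
  by_contra hne
  obtain ⟨C, hC⟩ := exists_isCompl (LinearMap.ker (redMap (e f)))
  have hCne : C ≠ ⊥ := by
    rintro rfl
    exact hne (LinearMap.ker_eq_top.mp (eq_top_of_isCompl_bot hC))
  obtain ⟨x, hxC, hx0⟩ := Submodule.exists_mem_ne_zero_of_ne_bot hCne
  have hinj : Function.Injective ((redMap (e f)).comp C.subtype) := by
    rw [← LinearMap.ker_eq_bot, LinearMap.ker_comp, ← Submodule.disjoint_iff_comap_eq_bot]
    exact hC.disjoint.symm
  obtain ⟨ψ, hψ⟩ := IsSemisimpleModule.extension_property _ hinj C.subtype
  obtain ⟨g, hg⟩ := redMap_surjective ψ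
  have hz : redMap (e.symm g * f : Module.End A P) = 0 := by
    rw [Module.End.mul_eq_comp, redMap_comp, hf, LinearMap.comp_zero]
  have hu : IsUnit (1 - g * e f : Module.End A Q) := by
    simpa using (unit_sub _ hz).map e
  obtain ⟨w, hw⟩ := hu.exists_left_inv
  have h1 : redMap (1 - g * e f : Module.End A Q) x = 0 := by
    obtain ⟨x', rfl⟩ := Submodule.Quotient.mk_surjective _ x
    have h2 := LinearMap.congr_fun hψ ⟨_, hxC⟩
    rw [← hg] at h2
    change (Submodule.Quotient.mk (g (e f x')) : Red A Q) = Submodule.Quotient.mk x' at h2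
    change Submodule.Quotient.mk (x' - g (e f x')) = (0 : Red A Q)
    rw [Submodule.Quotient.mk_sub, h2, sub_self]
  have h3 : redMap (w * (1 - g * e f) : Module.End A Q) x = x := by
    rw [hw]
    obtain ⟨x', rfl⟩ := Submodule.Quotient.mk_surjective _ x
    rfl
  rw [Module.End.mul_eq_comp, redMap_comp, LinearMap.comp_apply, h1, map_zero] at h3
  exact hx0 h3.symm

theorem length_le [Module.Finite A P] [Module.Projective A P] [Module.Finite A Q]
    [Module.Projective A Q] (e : Module.End A P ≃+* Module.End A Q) :
    Module.length (A ⧸ Ring.jacobson A) (Red A P) ≤ Module.length (A ⧸ Ring.jacobson A) (Red A Q) := by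
  rw [← WithBot.coe_le_coe, Module.coe_length, Module.coe_length]
  choose lift hlift using fun φ : Red A P →ₗ[A ⧸ Ring.jacobson A] Red A P => redMap_surjective φ
  have hsub : ∀ f g : Module.End A P, redMap f = redMap g → redMap (e f) = redMap (e g) := by
    intro f g h
    have h0 : redMap (f - g : Module.End A P) = 0 := by
      refine LinearMap.ext fun x => ?_
      obtain ⟨x, rfl⟩ := Submodule.Quotient.mk_surjective _ x
      have := LinearMap.congr_fun h (Submodule.Quotient.mk x)
      change Submodule.Quotient.mk (f x - g x) = (0 : Red A P)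
      rw [redMap_mk, redMap_mk] at this
      rw [Submodule.Quotient.mk_sub, this, sub_self]
    have h1 := redMap_equiv_zero e _ h0
    refine LinearMap.ext fun x => ?_
    obtain ⟨x, rfl⟩ := Submodule.Quotient.mk_surjective _ x
    have := LinearMap.congr_fun h1 (Submodule.Quotient.mk x)
    rw [map_sub] at this
    change Submodule.Quotient.mk (e f x - e g x) = (0 : Red A Q) at this
    rw [Submodule.Quotient.mk_sub, sub_eq_zero] at this
    exact this
  let t : Module.End (A ⧸ Ring.jacobson A) (Red A P) → Module.End (A ⧸ Ring.jacobson A) (Red A Q) :=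
    fun φ => redMap (e (lift φ))
  have hmul : ∀ φ φ', t (φ * φ') = t φ * t φ' := by
    intro φ φ'
    change redMap (e (lift (φ * φ'))) = (redMap (e (lift φ))).comp (redMap (e (lift φ')))
    rw [← redMap_comp, ← Module.End.mul_eq_comp (e (lift φ)), ← map_mul]
    apply hsub
    rw [hlift, Module.End.mul_eq_comp, Module.End.mul_eq_comp, redMap_comp, hlift, hlift]
  have hinj : ∀ φ φ', t φ = t φ' → φ = φ' := by
    intro φ φ' h
    have h0 : redMap (e (lift φ) - e (lift φ') : Module.End A Q) = 0 := by
      refine LinearMap.ext fun x => ?_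
      obtain ⟨x, rfl⟩ := Submodule.Quotient.mk_surjective _ x
      have := LinearMap.congr_fun h (Submodule.Quotient.mk x)
      change (Submodule.Quotient.mk (e (lift φ) x) : Red A Q) = Submodule.Quotient.mk (e (lift φ') x) at this
      change Submodule.Quotient.mk (e (lift φ) x - e (lift φ') x) = (0 : Red A Q)
      rw [Submodule.Quotient.mk_sub, this, sub_self]
    have h1 := redMap_equiv_zero e.symm _ h0
    rw [map_sub, e.symm_apply_apply, e.symm_apply_apply] at h1
    rw [← hlift φ, ← hlift φ']
    refine LinearMap.ext fun x => ?_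
    obtain ⟨x, rfl⟩ := Submodule.Quotient.mk_surjective _ x
    have := LinearMap.congr_fun h1 (Submodule.Quotient.mk x)
    change Submodule.Quotient.mk (lift φ x - lift φ' x) = (0 : Red A P) at this
    rw [Submodule.Quotient.mk_sub, sub_eq_zero] at this
    exact this
  have hp : ∀ S : Submodule (A ⧸ Ring.jacobson A) (Red A P),
      ∃ p : Module.End (A ⧸ Ring.jacobson A) (Red A P), LinearMap.range p = S ∧ ∀ y ∈ S, p y = y := by
    intro S
    obtain ⟨h, hh⟩ := IsSemisimpleModule.extension_property S.subtype S.injective_subtype LinearMap.id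
    refine ⟨S.subtype ∘ₗ h, le_antisymm ?_ ?_, ?_⟩
    · rintro _ ⟨y, rfl⟩; exact (h y).2
    · intro y hy
      exact ⟨y, congrArg Subtype.val (LinearMap.congr_fun hh ⟨y, hy⟩)⟩
    · intro y hy
      exact congrArg Subtype.val (LinearMap.congr_fun hh ⟨y, hy⟩)
  choose p hp hpy using hp
  have hle : ∀ S S', p S' * p S = p S ↔ S ≤ S' := by
    intro S S'
    constructor
    · intro h y hy
      have h1 := LinearMap.congr_fun h y
      change p S' (p S y) = p S y at h1
      rw [hpy S y hy] at h1
      rw [← hp S', ← h1]
      exact LinearMap.mem_range_self _ _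
    · intro h
      refine LinearMap.ext fun y => ?_
      exact hpy S' (p S y) (h ((hp S).le (LinearMap.mem_range_self (p S) y)))
  have hmono : ∀ S S', S ≤ S' ↔ LinearMap.range (t (p S)) ≤ LinearMap.range (t (p S')) := by
    intro S S'
    constructor
    · intro h
      rintro _ ⟨y, rfl⟩
      refine ⟨t (p S) y, ?_⟩
      exact (LinearMap.congr_fun (hmul (p S') (p S)) y).symm.trans (by rw [(hle S S').mpr h])
    · intro h
      refine (hle S S').mp (hinj _ _ ?_)
      rw [hmul]
      refine LinearMap.ext fun y => ?_
      obtain ⟨z, hz⟩ := h (LinearMap.mem_range_self (t (p S)) y)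
      change t (p S') (t (p S) y) = t (p S) y
      rw [← hz]
      exact (LinearMap.congr_fun (hmul (p S') (p S')) z).symm.trans (by rw [(hle S' S').mpr le_rfl])
  refine Order.krullDim_le_of_strictMono (fun S => LinearMap.range (t (p S))) fun S S' h => ?_
  exact lt_of_le_not_ge ((hmono S S').mp h.le) fun h' => h.not_ge ((hmono S' S).mpr h')

theorem nonempty_linearEquiv [Module.Finite A P] [Module.Projective A P] [Module.Finite A Q]
    [Module.Projective A Q] (e : Module.End A P ≃+* Module.End A Q) : Nonempty (P ≃ₗ[A] Q) := by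
  haveI : Module.Finite (A ⧸ Ring.jacobson A) (Red A P) :=
    Module.Finite.of_restrictScalars_finite A _ _
  haveI : Module.Finite (A ⧸ Ring.jacobson A) (Red A Q) :=
    Module.Finite.of_restrictScalars_finite A _ _
  obtain ⟨I, hI⟩ := IsAtomic.exists_atom (Ideal (A ⧸ Ring.jacobson A))
  haveI : IsSimpleModule (A ⧸ Ring.jacobson A) I := isSimpleModule_iff_isAtom.mpr hI
  have htype : ∀ (M : Type v) [AddCommGroup M] [Module (A ⧸ Ring.jacobson A) M],
      IsIsotypicOfType (A ⧸ Ring.jacobson A) M I := by
    intro M _ _ m hm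
    obtain ⟨I', ⟨e'⟩⟩ := IsSemisimpleRing.exists_linearEquiv_ideal_of_isSimpleModule
      (A ⧸ Ring.jacobson A) m
    haveI := IsSimpleModule.congr e'.symm
    exact ⟨e'.trans (IsSimpleRing.isIsotypic (A ⧸ Ring.jacobson A) (A ⧸ Ring.jacobson A) I I').some⟩
  obtain ⟨a, ⟨ea⟩⟩ := (htype (Red A P)).linearEquiv_fun
  obtain ⟨b, ⟨eb⟩⟩ := (htype (Red A Q)).linearEquiv_fun
  have hlen := le_antisymm (length_le e) (length_le e.symm)
  rw [ea.length_eq, eb.length_eq] at hlen
  simp [Module.length_eq_one] at hlen
  subst hlen
  obtain ⟨f, hf⟩ := redMap_surjective (ea.trans eb.symm).toLinearMap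
  refine ⟨LinearEquiv.ofBijective f (bijective_of_redMap f ?_)⟩
  rw [hf]
  exact (ea.trans eb.symm).bijective

end

end TwShA.StronglyLocal
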